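import Groth.Agent.TopDual7.Main
import Groth.Agent.DualLocal7.Field
import Groth.Agent.FibVanish.QCoh
import Groth.Agent.S0366

/-!
# Hypotheses of top duality over a local base
-/

set_option linter.style.haveILetI false
set_option backward.isDefEq.respectTransparency false
set_option backward.isDefEq.respectTransparency.types false

universe u

open CategoryTheory CategoryTheory.Limits AlgebraicGeometry

attribute [local instance] HasDerivedCategory.standard

namespace Groth.Agent.TopDual7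

open Groth.Agent Groth.Agent.KFlatLib Groth.Agent.PerfGen7

theorem isGE_normalized {A : Type u} [CommRing A] [IsLocalRing A] [IsNoetherianRing A] {ω : Dual.D A}
    (hω : Dual.IsDualizing A ω) (hn : Dual.IsNormalized A ω) (dA : ℕ) (hdA : ringKrullDim A = dA) :
    ω.IsGE (-(dA : ℤ)) := by
  refine (DerivedCategory.isGE_iff ω _).2 fun i hi => ?_
  haveI : Subsingleton (Dual.HD A ω i) := by
    refine not_nontrivial_iff_subsingleton.1 fun h => ?_
    obtain ⟨e⟩ := exists_homRingLEquiv ω i
    haveI : Nontrivial (Dual.inD A A ⟶ ω⟦i⟧) := e.toEquiv.nontrivial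
    obtain ⟨h1, -⟩ := (Groth.Agent.S0366.result A ω hω hn A dA
      ((Module.supportDim_self_eq_ringKrullDim (R := A)).trans hdA) i).1 inferInstance
    omega
  haveI : Subsingleton ↑((DerivedCategory.homologyFunctor (ModuleCat.{u} A) i).obj ω) :=
    (inferInstance : Subsingleton (Dual.HD A ω i))
  exact ModuleCat.isZero_of_subsingleton _

/-- Duality in top degree over a local base. -/
theorem exists_trace_local {A : Type u} [CommRing A] [IsLocalRing A] [IsNoetherianRing A]
    [PreservesFiniteLimits (tilde.functor (CommRingCat.of A))] {X : Scheme.{u}}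
    [X.Over (Spec (CommRingCat.of A))] [IsProper (X ↘ Spec (CommRingCat.of A))]
    [DCoh.HasRpush (X ↘ Spec (CommRingCat.of A))]
    (hf : DCoh.RpushPreservesQCoh (X ↘ Spec (CommRingCat.of A)))
    {a : DCoh.DQCoh (Spec (CommRingCat.of A)) ⥤ DCoh.DQCoh X}
    (adj : DCoh.RpushQ (X ↘ Spec (CommRingCat.of A)) hf ⊣ a) (W : DCoh.DQCoh (Spec (CommRingCat.of A)))
    {ω : Dual.D A} (hω : Dual.IsDualizing A ω) (hn : Dual.IsNormalized A ω)
    (hW : Nonempty (W.obj ≅ (DCoh.tildeD (CommRingCat.of A)).obj ω))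
    (dA : ℕ) (hdA : ringKrullDim A = dA) (dX d : ℕ) (hdX : topologicalKrullDim X ≤ dX)
    (hd : topologicalKrullDim ((X ↘ Spec (CommRingCat.of A)).fiber (IsLocalRing.closedPoint A)) ≤ d)
    (hdim : dX = d + dA) :
    ∃ t : Coh.HH X (DCoh.HD (a.obj W).obj (-(dX : ℤ))) d →ₗ[A] Dual.HD A ω (-(dA : ℤ)),
      ∀ F : X.Modules, Coh.IsQCoh F → ∀ ψ : Coh.HH X F d →ₗ[A] Dual.HD A ω (-(dA : ℤ)),
        ∃! φ : F ⟶ DCoh.HD (a.obj W).obj (-(dX : ℤ)),
          ∀ x : Coh.HH X F d, ψ x = t (Sheaf.H.map ((SheafOfModules.toSheaf X.ringCatSheaf).map φ) d x) := by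
  haveI := isGE_normalized hω hn dA hdA
  haveI : ∀ (R : CommRingCat.{u}), PreservesFiniteLimits (tilde.functor R) :=
    fun R => QCoh.tilde_preservesFiniteLimits
  haveI : ∀ (U V : Scheme.{u}) (j : U ⟶ V) [IsOpenImmersion j], PreservesFiniteLimits (Scheme.Modules.restrictFunctor j) :=
    fun U V j _ => QCoh.restrict_preservesFiniteLimits j
  haveI : (a.obj W).obj.IsGE (-(dX : ℤ)) := (DerivedCategory.isGE_iff _ _).2 fun i hi =>
    DualLocal7.isZero_hd hω hn _ hf adj W hW dX hdX i (Or.inl hi)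
  refine exists_trace hf adj W ω hW (dX : ℤ) (dA : ℤ) d (by exact_mod_cast hdim.symm) fun M hM i hi =>
    FibVanish.subsingleton_HH_qcoh (A := A) (X := X) (fun y hy => ?_) hM hi
  obtain rfl : y = IsLocalRing.closedPoint A :=
    PrimeSpectrum.ext (IsLocalRing.eq_maximalIdeal ((PrimeSpectrum.isClosed_singleton_iff_isMaximal _).1 hy))
  exact ((X ↘ Spec (CommRingCat.of A)).fiberHomeo _).symm.isEmbedding.topologicalKrullDim_le.trans hd

end Groth.Agent.TopDual7
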