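import Groth.Agent.PerfGen7.UnitDetect
import Groth.Agent.Bounded.Cokernel
import Groth.Agent.KFlatLib.Scheme.Adjoint
import Groth.Agent.ShriekTensor7.Triangulated

/-!
# Maps from the structure sheaf to a derived direct image
-/

set_option linter.style.haveILetI false
set_option linter.unusedSectionVars false
set_option backward.isDefEq.respectTransparency false
set_option backward.isDefEq.respectTransparency.types false

universe u

open CategoryTheory CategoryTheory.Limits AlgebraicGeometry

attribute [local instance] HasDerivedCategory.standard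

noncomputable section

namespace Groth.Agent.TopDual7

open Groth.Agent Groth.Agent.KFlatLib Groth.Agent.PerfGen7

variable {X Y : Scheme.{u}} (f : X ⟶ Y) [DCoh.HasRpush f]

/-- Multiplication by a global function on the structure sheaf, in the derived category. -/
abbrev scal (X : Scheme.{u}) (r : Coh.Γtop X) :
    DCoh.inD X (Coh.structureModule X) ⟶ DCoh.inD X (Coh.structureModule X) :=
  (DerivedCategory.singleFunctor X.Modules 0).map (Formal.smulModΓ (Coh.structureModule X) r)

/-- `Hom(O_Y, Rf_* Z) = Hom(O_X, Z)`, naturally, compatibly with scalars. -/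
theorem exists_baseEquiv :
    ∃ e : ∀ Z : DCoh.D X, (DCoh.inD Y (Coh.structureModule Y) ⟶ (DCoh.Rpush f).obj Z) ≃
        (DCoh.inD X (Coh.structureModule X) ⟶ Z),
      (∀ (Z Z' : DCoh.D X) (g : Z ⟶ Z') (y : DCoh.inD Y (Coh.structureModule Y) ⟶ (DCoh.Rpush f).obj Z),
          e Z' (y ≫ (DCoh.Rpush f).map g) = e Z y ≫ g) ∧
        (∀ (Z : DCoh.D X) (y y' : DCoh.inD Y (Coh.structureModule Y) ⟶ (DCoh.Rpush f).obj Z),
          e Z (y + y') = e Z y + e Z y') ∧
        ∀ (Z : DCoh.D X) (r : Coh.Γtop Y) (y : DCoh.inD Y (Coh.structureModule Y) ⟶ (DCoh.Rpush f).obj Z),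
          e Z (scal Y r ≫ y) = scal X (f.appTop r) ≫ e Z y := by
  haveI := hasLpull f
  obtain ⟨adj⟩ := nonempty_lpull_rpush_adj f
  haveI : IsIso (SheafOfModules.pullbackObjUnitToUnit f.toRingCatSheafHom) := inferInstance
  let ψ : (Scheme.Modules.pullback f).obj (Coh.structureModule Y) ≅ Coh.structureModule X :=
    asIso (SheafOfModules.pullbackObjUnitToUnit f.toRingCatSheafHom)
  haveI hK : IsIso ((lpullComparison f).app (degZero (Coh.structureModule Y))) :=
    isIso_lpullComparison f isKFlat_degZero_structure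
  let c : (DCoh.Lpull f).obj (DCoh.inD Y (Coh.structureModule Y)) ≅ DCoh.inD X (Coh.structureModule X) :=
    @asIso _ _ _ _ ((lpullComparison f).app (degZero (Coh.structureModule Y))) hK ≪≫ DerivedCategory.Q.mapIso
      ((HomologicalComplex.singleMapHomologicalComplex (Scheme.Modules.pullback f) (ComplexShape.up ℤ) 0).app _ ≪≫
        (HomologicalComplex.single _ (ComplexShape.up ℤ) 0).mapIso ψ)
  have hc : ∀ r : Coh.Γtop Y, (DCoh.Lpull f).map (scal Y r) ≫ c.hom = c.hom ≫ scal X (f.appTop r) := by
    intro r
    let s := (HomologicalComplex.single Y.Modules (ComplexShape.up ℤ) 0).map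
      (Formal.smulModΓ (Coh.structureModule Y) r)
    have h1 : (DCoh.Lpull f).map (scal Y r) ≫ (lpullComparison f).app (degZero (Coh.structureModule Y)) =
        (lpullComparison f).app (degZero (Coh.structureModule Y)) ≫ DerivedCategory.Q.map ((pullCx f).map s) :=
      (lpullComparison f).naturality s
    have h2 : (pullCx f).map s ≫
        ((HomologicalComplex.singleMapHomologicalComplex (Scheme.Modules.pullback f) (ComplexShape.up ℤ) 0).app _ ≪≫
          (HomologicalComplex.single _ (ComplexShape.up ℤ) 0).mapIso ψ).hom =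
        ((HomologicalComplex.singleMapHomologicalComplex (Scheme.Modules.pullback f) (ComplexShape.up ℤ) 0).app _ ≪≫
          (HomologicalComplex.single _ (ComplexShape.up ℤ) 0).mapIso ψ).hom ≫
          (HomologicalComplex.single X.Modules (ComplexShape.up ℤ) 0).map
            (Formal.smulModΓ (Coh.structureModule X) (f.appTop r)) := by
      have hn := (HomologicalComplex.singleMapHomologicalComplex (Scheme.Modules.pullback f)
        (ComplexShape.up ℤ) 0).hom.naturality (Formal.smulModΓ (Coh.structureModule Y) r)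
      simp only [Iso.trans_hom, Iso.app_hom, Functor.mapIso_hom, Category.assoc, ← Functor.map_comp,
        KLin.comp_smulModΓ]
      rw [Functor.map_comp, ← Bounded.pullback_smulModΓ f]
      exact (reassoc_of% hn) _
    show (DCoh.Lpull f).map (scal Y r) ≫ (lpullComparison f).app _ ≫ DerivedCategory.Q.map _ =
      ((lpullComparison f).app _ ≫ DerivedCategory.Q.map _) ≫ _
    refine ((Category.assoc _ _ _).symm.trans ((congrArg (fun t => t ≫ _) h1).trans ((Category.assoc _ _ _).trans ?_))).trans
      (Category.assoc _ _ _).symm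
    refine congrArg (fun t => _ ≫ t) ?_
    exact ((DerivedCategory.Q.map_comp _ _).symm.trans (congrArg DerivedCategory.Q.map h2)).trans
      (DerivedCategory.Q.map_comp _ _)
  refine ⟨fun Z => (adj.homEquiv _ Z).symm.trans (c.homCongr (Iso.refl Z)), fun Z Z' g y => ?_, fun Z y y' => ?_, fun Z r y => ?_⟩
  · show c.inv ≫ (adj.homEquiv _ _).symm (y ≫ (DCoh.Rpush f).map g) ≫ 𝟙 _ =
      (c.inv ≫ (adj.homEquiv _ _).symm y ≫ 𝟙 _) ≫ g
    rw [adj.homEquiv_naturality_right_symm]
    simp
  · haveI := adj.left_adjoint_additive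
    show c.inv ≫ (adj.homEquiv _ _).symm (y + y') ≫ 𝟙 _ =
      c.inv ≫ (adj.homEquiv _ _).symm y ≫ 𝟙 _ + c.inv ≫ (adj.homEquiv _ _).symm y' ≫ 𝟙 _
    rw [Adjunction.homEquiv_counit, Adjunction.homEquiv_counit, Adjunction.homEquiv_counit]
    simp [Functor.map_add]
  · show c.inv ≫ (adj.homEquiv _ _).symm (scal Y r ≫ y) ≫ 𝟙 _ =
      scal X (f.appTop r) ≫ c.inv ≫ (adj.homEquiv _ _).symm y ≫ 𝟙 _
    rw [adj.homEquiv_naturality_left_symm, Category.assoc, ← Category.assoc (scal X (f.appTop r))]
    rw [← Category.assoc c.inv]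
    congr 1
    rw [Iso.inv_comp_eq, ← Category.assoc, ← hc, Category.assoc, Iso.hom_inv_id, Category.comp_id]

end Groth.Agent.TopDual7
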