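import Groth.Agent.TopDual7.Pairing
import Groth.Agent.TopDual7.Base
import Groth.Agent.ShriekSupp7.Kill
import Groth.Agent.KFlatLib.Scheme.TildeD
import Groth.Agent.QCoh.Tilde

/-!
# Pairing on an affine scheme
-/

set_option linter.style.haveILetI false
set_option linter.unusedSectionVars false
set_option backward.isDefEq.respectTransparency false
set_option backward.isDefEq.respectTransparency.types false

universe u

open CategoryTheory CategoryTheory.Limits AlgebraicGeometry

attribute [local instance] HasDerivedCategory.standard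

noncomputable section

namespace Groth.Agent.TopDual7

open Groth.Agent Groth.Agent.KFlatLib Groth.Agent.PerfGen7

variable {A : Type u} [CommRing A] [PreservesFiniteLimits (tilde.functor (CommRingCat.of A))]

local notation "S" => Spec (CommRingCat.of A)

/-- The structure sheaf is the tilde of the ring, compatibly with scalars. -/
theorem exists_unitIso :
    ∃ c : (DCoh.tildeD (CommRingCat.of A)).obj (Dual.inD A A) ≅ DCoh.inD S (Coh.structureModule S),
      ∀ r : A, (DCoh.tildeD (CommRingCat.of A)).map (r • 𝟙 (Dual.inD A A)) ≫ c.hom =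
        c.hom ≫ scal S ((Scheme.ΓSpecIso (CommRingCat.of A)).inv r) := by
  haveI : (tilde.functor (CommRingCat.of A)).Additive := Functor.additive_of_preserves_binary_products _
  haveI := QCoh.tilde_preservesFiniteColimits (R := CommRingCat.of A)
  let T := tilde.functor (CommRingCat.of A)
  let M := ModuleCat.of A A
  let c₁ := T.mapDerivedCategorySingleFunctor 0
  let ψ : T.obj M ≅ Coh.structureModule S := tildeSelf (R := CommRingCat.of A)
  refine ⟨c₁.app M ≪≫ (DerivedCategory.singleFunctor _ 0).mapIso ψ, fun r => ?_⟩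
  have h0 : r • 𝟙 (Dual.inD A A) = (DerivedCategory.singleFunctor (ModuleCat.{u} A) 0).map (r • 𝟙 M) := by
    rw [Functor.map_smul, CategoryTheory.Functor.map_id]
  rw [h0, Iso.trans_hom, Iso.app_hom, Functor.mapIso_hom, Category.assoc]
  refine (reassoc_of% (c₁.hom.naturality (r • 𝟙 M))) _ |>.trans (congrArg (fun q => c₁.hom.app M ≫ q) ?_)
  show (DerivedCategory.singleFunctor _ 0).map (T.map (r • 𝟙 M)) ≫ (DerivedCategory.singleFunctor _ 0).map ψ.hom = _
  rw [← Functor.map_comp, ShriekSupp7.tilde_map_smul, ← KLin.comp_smulModΓ, Functor.map_comp]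

/-- Maps out of the structure sheaf pair perfectly on either side of the t-structure. -/
theorem exists_pairing (L : Dual.D A) [L.IsGE 0] {W : DCoh.D S}
    (eW : W ≅ (DCoh.tildeD (CommRingCat.of A)).obj L) :
    ∃ J : (DCoh.inD S (Coh.structureModule S) ⟶ W) ≃+ (Dual.inD A A ⟶ L),
      (∀ (r : A) z, J (scal S ((Scheme.ΓSpecIso (CommRingCat.of A)).inv r) ≫ z) = r • J z) ∧
      ∀ (K : Dual.D A) [K.IsLE 0] {G : DCoh.D S} (_ : G ≅ (DCoh.tildeD (CommRingCat.of A)).obj K),
      (∀ θ θ' : G ⟶ W, (∀ y, J (y ≫ θ) = J (y ≫ θ')) → θ = θ') ∧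
      ∀ ψ : (DCoh.inD S (Coh.structureModule S) ⟶ G) →+ (Dual.inD A A ⟶ L),
        (∀ (r : A) y, ψ (scal S ((Scheme.ΓSpecIso (CommRingCat.of A)).inv r) ≫ y) = r • ψ y) →
          ∃ θ : G ⟶ W, ∀ y, J (y ≫ θ) = ψ y := by
  haveI : (tilde.functor (CommRingCat.of A)).Additive := Functor.additive_of_preserves_binary_products _
  haveI := QCoh.tilde_preservesFiniteColimits (R := CommRingCat.of A)
  let T := DCoh.tildeD (CommRingCat.of A)
  haveI : T.Full := ⟨fun f => (tildeD_map_bijective _ _).2 f⟩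
  haveI : T.Faithful := ⟨fun h => (tildeD_map_bijective _ _).1 h⟩
  let ff := Functor.FullyFaithful.ofFullyFaithful T
  obtain ⟨c, hc⟩ := exists_unitIso (A := A)
  let J₀ : ∀ {Z : DCoh.D S} {M : Dual.D A}, (Z ≅ T.obj M) →
      (DCoh.inD S (Coh.structureModule S) ⟶ Z) ≃+ (Dual.inD A A ⟶ M) := fun {Z M} e =>
    { toFun := fun z => ff.preimage (c.hom ≫ z ≫ e.hom)
      invFun := fun z => c.inv ≫ T.map z ≫ e.inv
      left_inv := fun z => by simp
      right_inv := fun z => by simp
      map_add' := fun z z' => ff.map_injective (by simp [Functor.map_add]) }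
  have hJ : ∀ {Z : DCoh.D S} {M : Dual.D A} (e : Z ≅ T.obj M) (r : A) z,
      J₀ e (scal S ((Scheme.ΓSpecIso (CommRingCat.of A)).inv r) ≫ z) = r • J₀ e z := fun e r z => by
    refine ff.map_injective ?_
    show T.map (ff.preimage _) = T.map (r • ff.preimage _)
    rw [← Category.id_comp (ff.preimage (c.hom ≫ z ≫ e.hom)), ← Linear.smul_comp, T.map_comp,
      ff.map_preimage, ff.map_preimage, Category.assoc, ← reassoc_of% (hc r)]
  refine ⟨J₀ eW, hJ eW, fun K _ G eG => ?_⟩
  have hcomp : ∀ (θ : G ⟶ W) y, J₀ eW (y ≫ θ) = J₀ eG y ≫ ff.preimage (eG.inv ≫ θ ≫ eW.hom) := fun θ y => by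
    refine ff.map_injective ?_
    show T.map (ff.preimage _) = T.map (ff.preimage _ ≫ ff.preimage _)
    rw [T.map_comp, ff.map_preimage, ff.map_preimage, ff.map_preimage]
    simp
  refine ⟨fun θ θ' h => ?_, fun ψ hψ => ?_⟩
  · have h1 : ff.preimage (eG.inv ≫ θ ≫ eW.hom) = ff.preimage (eG.inv ≫ θ' ≫ eW.hom) := by
      refine (bijective_pairing K L).1 (LinearMap.ext fun u => ?_)
      obtain ⟨y, rfl⟩ := (J₀ eG).surjective u
      show J₀ eG y ≫ _ = J₀ eG y ≫ _
      rw [← hcomp, ← hcomp, h]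
    have h2 := congrArg (fun q => eG.hom ≫ T.map q ≫ eW.inv) h1
    simpa using h2
  · let ψ' : (Dual.inD A A ⟶ K) →ₗ[A] (Dual.inD A A ⟶ L) :=
      { toFun := fun u => ψ ((J₀ eG).symm u)
        map_add' := fun u v => by simp
        map_smul' := fun r u => by
          obtain ⟨y, rfl⟩ := (J₀ eG).surjective u
          rw [← hJ eG r y]
          simp only [AddEquiv.symm_apply_apply, RingHom.id_apply]
          exact hψ r y }
    obtain ⟨θ₀, hθ₀⟩ := (bijective_pairing K L).2 ψ'
    refine ⟨eG.hom ≫ T.map θ₀ ≫ eW.inv, fun y => ?_⟩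
    rw [hcomp]
    have h1 : ff.preimage (eG.inv ≫ (eG.hom ≫ T.map θ₀ ≫ eW.inv) ≫ eW.hom) = θ₀ := ff.map_injective (by simp)
    rw [h1]
    exact (LinearMap.congr_fun hθ₀ (J₀ eG y)).trans (congrArg ψ ((J₀ eG).symm_apply_apply y))

end Groth.Agent.TopDual7
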