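import Mathlib.Algebra.Homology.DerivedCategory.TStructure
import Mathlib.Algebra.Homology.DerivedCategory.FullyFaithful
import Mathlib.Algebra.Homology.DerivedCategory.HomologySequence
import Mathlib.CategoryTheory.Triangulated.TStructure.TruncLTGE

/-!
# The bottom cohomology of an object bounded below
-/

set_option linter.style.haveILetI false
set_option backward.isDefEq.respectTransparency false
set_option backward.isDefEq.respectTransparency.types false

universe w v u

open CategoryTheory CategoryTheory.Limits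

noncomputable section

namespace Groth.Agent.TopDual7

variable {C : Type u} [Category.{v} C] [Abelian C] [HasDerivedCategory.{w} C]

/-- An object in degrees `≥ 0` receives its zeroth cohomology, universally. -/
theorem exists_fromBottom (W : DerivedCategory C) [W.IsGE 0] :
    ∃ ι : (DerivedCategory.singleFunctor C 0).obj ((DerivedCategory.homologyFunctor C 0).obj W) ⟶ W,
      ∀ F : C, Function.Bijective fun φ : F ⟶ (DerivedCategory.homologyFunctor C 0).obj W =>
        (DerivedCategory.singleFunctor C 0).map φ ≫ ι := by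
  let t := DerivedCategory.TStructure.t (C := C)
  let s := DerivedCategory.singleFunctor C 0
  let H := DerivedCategory.homologyFunctor C 0
  haveI : ((t.truncLT 1).obj W).IsGE 0 := inferInstanceAs (t.IsGE ((t.truncLT 1).obj W) 0)
  haveI : ((t.truncLT 1).obj W).IsLE 0 := t.isLE_truncLT_obj _ _ _ (by omega)
  obtain ⟨N, ⟨eN⟩⟩ := DerivedCategory.exists_iso_singleFunctor_obj_of_isGE_of_isLE ((t.truncLT 1).obj W) 0
  let ι' : s.obj N ⟶ W := eN.inv ≫ (t.truncLTι 1).app W
  haveI : IsIso (H.map ι') := by
    have hT := t.triangleLTGE_distinguished 1 W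
    haveI : ((t.truncGE 1).obj W).IsGE 1 := t.isGE_truncGE_obj _ _ _ le_rfl
    haveI : Epi (H.map ((t.truncLTι 1).app W)) :=
      (DerivedCategory.HomologySequence.epi_homologyMap_mor₁_iff _ hT 0).2
        ((DerivedCategory.isZero_of_isGE ((t.truncGE 1).obj W) 1 0 (by omega)).eq_of_tgt _ _)
    haveI : Mono (H.map ((t.truncLTι 1).app W)) :=
      (DerivedCategory.HomologySequence.mono_homologyMap_mor₁_iff _ hT (-1) 0 (by omega)).2
        ((DerivedCategory.isZero_of_isGE ((t.truncGE 1).obj W) 1 (-1) (by omega)).eq_of_src _ _)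
    haveI : IsIso (H.map ((t.truncLTι 1).app W)) := isIso_of_mono_of_epi _
    rw [show H.map ι' = H.map eN.inv ≫ H.map ((t.truncLTι 1).app W) from H.map_comp _ _]
    infer_instance
  let q : H.obj W ≅ N := (asIso (H.map ι')).symm ≪≫
    (DerivedCategory.singleFunctorCompHomologyFunctorIso C 0).app N
  refine ⟨s.map q.hom ≫ ι', fun F => ⟨fun φ φ' h => ?_, fun g => ?_⟩⟩
  · haveI : (s.obj F).IsLE 0 := inferInstance
    haveI : t.IsLE (s.obj F) (1 - 1) := (inferInstance : t.IsLE (s.obj F) 0)
    rw [← cancel_mono q.hom]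
    refine (Functor.FullyFaithful.ofFullyFaithful s).map_injective ?_
    rw [← cancel_mono eN.inv]
    refine t.to_truncLT_obj_ext ?_
    simpa only [Functor.map_comp, Category.assoc] using h
  · haveI : (s.obj F).IsLE 0 := inferInstance
    haveI : t.IsLE (s.obj F) 0 := inferInstance
    obtain ⟨ψ, hψ⟩ := ((Functor.FullyFaithful.ofFullyFaithful s).map_bijective F N).2
      (t.liftTruncLT g 0 1 (by omega) ≫ eN.hom)
    refine ⟨ψ ≫ q.inv, ?_⟩
    show s.map (ψ ≫ q.inv) ≫ s.map q.hom ≫ eN.inv ≫ (t.truncLTι 1).app W = g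
    rw [← s.map_comp_assoc, Category.assoc, Iso.inv_hom_id, Category.comp_id, hψ]
    simp

end Groth.Agent.TopDual7
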