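import Groth.Agent.EtMVLib.ExtTools
import Groth.Agent.KFlatLib.Scheme.CompactGlobal
import Groth.Agent.KFlatLib.Scheme.AffineSections
import Groth.Agent.KFlatLib.Scheme.RGammaPush
import Groth.Agent.Bounded.Cokernel
import Groth.Prelude.Def_Canon

/-!
# `Ext^n(O_X, F) ≅ H^n(X, F)`, naturally and linearly
-/

set_option linter.style.haveILetI false
set_option linter.unusedSectionVars false
set_option backward.isDefEq.respectTransparency false
set_option backward.isDefEq.respectTransparency.types false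
set_option maxHeartbeats 1000000

universe u

open CategoryTheory CategoryTheory.Limits AlgebraicGeometry TopologicalSpace Opposite CategoryTheory.Abelian

noncomputable section

namespace Groth.Agent.TopDual7

open Groth.Agent

variable {X : Scheme.{u}} [HasExt.{u} X.Modules]

local notation "OX" => Coh.structureModule X
local notation "toA" => QCoh.toAbFunctor X

instance preservesFiniteLimits_toAb : PreservesFiniteLimits (QCoh.toAbFunctor X) :=
  (QCoh.toAbFunctor X).preservesFiniteLimits_of_preservesHomology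

instance preservesFiniteColimits_toAb : PreservesFiniteColimits (QCoh.toAbFunctor X) :=
  (QCoh.toAbFunctor X).preservesFiniteColimits_of_preservesHomology

/-- The class of the unit section. -/
def unitClass : Coh.HH X OX 0 :=
  (Sheaf.H.equiv₀ (Coh.toAb OX) isTerminalTop).symm (1 : Γ(X, ⊤))

/-- `Ext^n(O_X, F) → H^n(X, F)`. -/
def toHH (F : X.Modules) (n : ℕ) : Ext.{u} OX F n →+ Coh.HH X F n :=
  AddMonoidHom.mk' (fun e => Ext.comp unitClass (e.mapExactFunctor toA) (zero_add n))
    fun a b => by rw [Ext.mapExactFunctor_add, Ext.comp_add]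

theorem toHH_comp {F G : X.Modules} {a b c : ℕ} (α : Ext.{u} OX F a) (β : Ext.{u} F G b) (h : a + b = c) :
    toHH G c (α.comp β h) = Ext.comp (toHH F a α) (β.mapExactFunctor toA) h := by
  show Ext.comp unitClass ((α.comp β h).mapExactFunctor toA) (zero_add c) = _
  rw [Ext.mapExactFunctor_comp]
  exact (Ext.comp_assoc _ _ _ (zero_add a) h (by omega)).symm

/-- Naturality. -/
theorem toHH_comp_mk₀ {F G : X.Modules} (φ : F ⟶ G) {n : ℕ} (α : Ext.{u} OX F n) :
    toHH G n (α.comp (Ext.mk₀ φ) (add_zero n)) =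
      Sheaf.H.map ((SheafOfModules.toSheaf X.ringCatSheaf).map φ) n (toHH F n α) := by
  rw [toHH_comp, Ext.mapExactFunctor_mk₀, Sheaf.H.map_apply]
  rfl

theorem toHH_mk₀ {F : X.Modules} (φ : OX ⟶ F) :
    Sheaf.H.equiv₀ (Coh.toAb F) isTerminalTop (toHH F 0 (Ext.mk₀ φ)) = KFlatLib.topEquiv F φ := by
  show Sheaf.H.equiv₀ (Coh.toAb F) isTerminalTop (Ext.comp unitClass ((Ext.mk₀ φ).mapExactFunctor toA) (zero_add 0)) = _
  rw [Ext.mapExactFunctor_mk₀]
  show Sheaf.H.equiv₀ (Coh.toAb F) isTerminalTop (Sheaf.H.map ((QCoh.toAbFunctor X).map φ) 0 unitClass) = _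
  refine (Sheaf.H.equiv₀_naturality isTerminalTop ((QCoh.toAbFunctor X).map φ) unitClass).symm.trans ?_
  show ((QCoh.toAbFunctor X).map φ).hom.app (op ⊤) (Sheaf.H.equiv₀ (Coh.toAb OX) isTerminalTop ((Sheaf.H.equiv₀ (Coh.toAb OX) isTerminalTop).symm (1 : Γ(X, ⊤)))) = _
  rw [AddEquiv.apply_symm_apply]
  rfl

theorem toHH_bijective (F : X.Modules) (n : ℕ) : Function.Bijective (toHH F n) := by
  haveI : EnoughInjectives X.Modules := IsGrothendieckAbelian.enoughInjectives
  induction n generalizing F with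
  | zero =>
    refine ⟨fun x y h => ?_, fun z => ?_⟩
    · obtain ⟨f, rfl⟩ := (Ext.mk₀_bijective _ _).2 x
      obtain ⟨g, rfl⟩ := (Ext.mk₀_bijective _ _).2 y
      have h' := congrArg (Sheaf.H.equiv₀ (Coh.toAb F) isTerminalTop) h
      rw [toHH_mk₀, toHH_mk₀] at h'
      rw [(KFlatLib.topEquiv F).injective h']
    · exact ⟨Ext.mk₀ ((KFlatLib.topEquiv F).symm (Sheaf.H.equiv₀ (Coh.toAb F) isTerminalTop z)),
        (Sheaf.H.equiv₀ (Coh.toAb F) isTerminalTop).injective (by rw [toHH_mk₀, Equiv.apply_symm_apply])⟩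
  | succ n ih =>
    let hS := EtMVLib.injSES_shortExact F
    have : Injective (EtMVLib.injSES F).X₂ := inferInstanceAs (Injective (Injective.under F))
    have hT : ((EtMVLib.injSES F).map toA).ShortExact := hS.map_of_exact toA
    refine ⟨(injective_iff_map_eq_zero _).2 fun α hα => ?_, fun β => ?_⟩
    · obtain ⟨α', rfl⟩ := EtMVLib.exists_eq_comp_extClass α
      rw [toHH_comp, Ext.mapExactFunctor_extClass] at hα
      obtain ⟨γ, hγ⟩ := Ext.covariant_sequence_exact₃ _ hT _ rfl hα
      obtain ⟨γ', rfl⟩ := (ih _).2 γ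
      have : γ'.comp (Ext.mk₀ (EtMVLib.injSES F).g) (add_zero n) = α' := (ih _).1 (by
        rw [toHH_comp, Ext.mapExactFunctor_mk₀]
        exact hγ)
      rw [← this, Ext.comp_assoc_of_second_deg_zero, hS.comp_extClass]
      exact Ext.comp_zero _ _ _ _ rfl
    · haveI := KFlatLib.subsingleton_HH_of_injective (EtMVLib.injSES F).X₂ n
      obtain ⟨β', hβ⟩ := Ext.covariant_sequence_exact₁ _ hT β
        (Subsingleton.elim (α := Coh.HH X (EtMVLib.injSES F).X₂ (n + 1)) _ _) rfl
      obtain ⟨α', rfl⟩ := (ih _).2 β'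
      refine ⟨α'.comp hS.extClass rfl, ?_⟩
      rw [toHH_comp, Ext.mapExactFunctor_extClass]
      exact hβ

/-- Multiplication by a global function is central for `Ext`. -/
theorem smul_central {A B : X.Modules} {n : ℕ} (α : Ext.{u} A B n) (r : Coh.Γtop X) :
    α.comp (Ext.mk₀ (Formal.smulModΓ B r)) (add_zero n) =
      (Ext.mk₀ (Formal.smulModΓ A r)).comp α (zero_add n) := by
  haveI : EnoughInjectives X.Modules := IsGrothendieckAbelian.enoughInjectives
  induction α using EtMVLib.ext_induction with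
  | h0 A B f => rw [Ext.mk₀_comp_mk₀, Ext.mk₀_comp_mk₀, KLin.comp_smulModΓ]
  | hs A hS β ih =>
    rename_i n S
    let φ : S ⟶ S :=
      { τ₁ := Formal.smulModΓ S.X₁ r
        τ₂ := Formal.smulModΓ S.X₂ r
        τ₃ := Formal.smulModΓ S.X₃ r
        comm₁₂ := (KLin.comp_smulModΓ _ _).symm
        comm₂₃ := (KLin.comp_smulModΓ _ _).symm }
    exact EtMVLib.comp_square ih (ShortComplex.ShortExact.extClass_naturality hS hS φ)

/-- Linearity. -/
theorem toHH_smul {F : X.Modules} {n : ℕ} (α : Ext.{u} OX F n) (r : Coh.Γtop X) :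
    toHH F n ((Ext.mk₀ (Formal.smulModΓ OX r)).comp α (zero_add n)) = r • toHH F n α := by
  rw [← smul_central, toHH_comp_mk₀]
  rfl

end Groth.Agent.TopDual7
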