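import Groth.Agent.TopDual7.Affine
import Groth.Agent.TopDual7.ExtHH
import Groth.Agent.TopDual7.Bottom
import Groth.Agent.ShriekTensor7.Triangulated
import Groth.Agent.ProjGen7.RpushTwist
import Groth.Agent.ShriekPn7.Main
import Groth.Agent.QCoh.Tilde

/-!
# The top cohomology represents duals
-/

set_option linter.style.haveILetI false
set_option linter.unusedSectionVars false
set_option backward.isDefEq.respectTransparency false
set_option backward.isDefEq.respectTransparency.types false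
set_option maxHeartbeats 2000000

universe u

open CategoryTheory CategoryTheory.Limits AlgebraicGeometry CategoryTheory.Abelian

attribute [local instance] HasDerivedCategory.standard

noncomputable section

namespace Groth.Agent.TopDual7

open Groth.Agent Groth.Agent.KFlatLib Groth.Agent.PerfGen7

variable {A : Type u} [CommRing A] {X : Scheme.{u}} [X.Over (Spec (CommRingCat.of A))]

local notation "f" => (X ↘ Spec (CommRingCat.of A))
local notation "S" => Spec (CommRingCat.of A)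

/-- Classes in top cohomology as maps into the derived direct image. -/
theorem exists_classes [DCoh.HasRpush f] (d : ℕ) :
    ∃ Φ : ∀ F : X.Modules, (DCoh.inD S (Coh.structureModule S) ⟶
        (DCoh.Rpush f).obj (((DerivedCategory.singleFunctor X.Modules 0).obj F)⟦(d : ℤ)⟧)) ≃+ Coh.HH X F d,
      (∀ (F G : X.Modules) (φ : F ⟶ G) y,
        Φ G (y ≫ (DCoh.Rpush f).map (((DerivedCategory.singleFunctor X.Modules 0).map φ)⟦(d : ℤ)⟧')) =
          Sheaf.H.map ((SheafOfModules.toSheaf X.ringCatSheaf).map φ) d (Φ F y)) ∧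
      ∀ (F : X.Modules) (r : A) y,
        Φ F (scal S ((Scheme.ΓSpecIso (CommRingCat.of A)).inv r) ≫ y) = r • Φ F y := by
  haveI : EnoughInjectives X.Modules := IsGrothendieckAbelian.enoughInjectives
  haveI : HasExt.{u} X.Modules := hasExt_of_enoughInjectives _
  obtain ⟨eb, hn, hadd, hs⟩ := exists_baseEquiv f
  let Φ₀ : ∀ F : X.Modules, (DCoh.inD S (Coh.structureModule S) ⟶
      (DCoh.Rpush f).obj (((DerivedCategory.singleFunctor X.Modules 0).obj F)⟦(d : ℤ)⟧)) →+ Coh.HH X F d := fun F =>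
    (toHH F d).comp (Ext.homAddEquiv.symm.toAddMonoidHom.comp (AddMonoidHom.mk' (eb _) (hadd _)))
  have hb : ∀ F, Function.Bijective (Φ₀ F) := fun F =>
    (toHH_bijective F d).comp ((Ext.homAddEquiv.symm.bijective).comp (eb _).bijective)
  refine ⟨fun F => AddEquiv.ofBijective (Φ₀ F) (hb F), fun F G φ y => ?_, fun F r y => ?_⟩
  · show toHH G d (Ext.homAddEquiv.symm (eb _ _)) = Sheaf.H.map _ d (toHH F d (Ext.homAddEquiv.symm (eb _ y)))
    rw [← toHH_comp_mk₀, hn]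
    refine congrArg (toHH G d) (Ext.homAddEquiv.injective ?_)
    rw [AddEquiv.apply_symm_apply, Ext.homAddEquiv_apply, Ext.comp_hom, Ext.mk₀_hom, ShiftedHom.comp_mk₀]
    exact congrArg (fun q => q ≫ _) (Ext.homAddEquiv.apply_symm_apply (eb _ y)).symm
  · show toHH F d (Ext.homAddEquiv.symm (eb _ _)) = Coh.toGlobal f r • toHH F d (Ext.homAddEquiv.symm (eb _ y))
    rw [← toHH_smul, hs]
    refine congrArg (toHH F d) (Ext.homAddEquiv.injective ?_)
    rw [AddEquiv.apply_symm_apply, Ext.homAddEquiv_apply, Ext.comp_hom, Ext.mk₀_hom, ShiftedHom.mk₀_comp]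
    exact congrArg (fun q => _ ≫ q) (Ext.homAddEquiv.apply_symm_apply (eb _ y)).symm

/-- The direct image of a top shift is concentrated in non-positive degrees. -/
theorem exists_tilde_isLE [PreservesFiniteLimits (tilde.functor (CommRingCat.of A))]
    [QuasiCompact f] [QuasiSeparated f] [DCoh.HasRpush f] (hf : DCoh.RpushPreservesQCoh f) (d : ℕ)
    (hvan : ∀ M : X.Modules, Coh.IsQCoh M → ∀ i : ℕ, d < i → Subsingleton (Coh.HH X M i))
    {F : X.Modules} (hF : Coh.IsQCoh F) :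
    ∃ (K : Dual.D A) (_ : K.IsLE 0),
      Nonempty ((DCoh.Rpush f).obj (((DerivedCategory.singleFunctor X.Modules 0).obj F)⟦(d : ℤ)⟧) ≅
        (DCoh.tildeD (CommRingCat.of A)).obj K) := by
  haveI : (tilde.functor (CommRingCat.of A)).Additive := Functor.additive_of_preserves_binary_products _
  haveI := QCoh.tilde_preservesFiniteColimits (R := CommRingCat.of A)
  haveI : HasInjectiveResolutions X.Modules := inferInstance
  obtain ⟨K, ⟨e⟩⟩ := exists_tildeD_iso (hf _ (isQCohD_shift (ShriekPn7.isQCohD_inD hF) (d : ℤ)))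
  refine ⟨K, (DerivedCategory.isLE_iff K 0).2 fun p hp => ?_, ⟨e.symm⟩⟩
  let eS := ((DCoh.Rpush f).commShiftIso (d : ℤ)).app ((DerivedCategory.singleFunctor X.Modules 0).obj F)
  obtain ⟨q, hq⟩ : ∃ q : ℕ, (d : ℤ) + p = ((q + 1 : ℕ) : ℤ) := ⟨((d : ℤ) + p - 1).toNat, by omega⟩
  have h0 : IsZero ((DerivedCategory.homologyFunctor _ ((q + 1 : ℕ) : ℤ)).obj
      ((DCoh.Rpush f).obj (DCoh.inD X F))) :=
    (ProjGen7.isZero_Rpush_succ f hF q (hvan F hF (q + 1) (by omega))).of_iso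
      (nonempty_hd_rpush_single f F (q + 1)).some
  have h1 : IsZero ((DerivedCategory.homologyFunctor _ p).obj
      ((DCoh.tildeD (CommRingCat.of A)).obj K)) :=
    h0.of_iso (((DerivedCategory.homologyFunctor _ p).mapIso (e ≪≫ eS)) ≪≫
      ((DerivedCategory.homologyFunctor (Spec (CommRingCat.of A)).Modules 0).shiftIso (d : ℤ) p _ hq).app _)
  have h2 := h1.of_iso ((mapDCHomologyIso (tilde.functor (CommRingCat.of A)) p).app K).symm
  exact (IsZero.iff_id_eq_zero _).2 ((tilde.functor (CommRingCat.of A)).map_injective (h2.eq_of_src _ _))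

/-- `H^{-n}(a W)` represents `F ↦ Hom_A(H^d(X, F), H^{-m}(ω))`. -/
theorem exists_trace [PreservesFiniteLimits (tilde.functor (CommRingCat.of A))]
    [QuasiCompact f] [QuasiSeparated f] [DCoh.HasRpush f] (hf : DCoh.RpushPreservesQCoh f)
    {a : DCoh.DQCoh S ⥤ DCoh.DQCoh X} (adj : DCoh.RpushQ f hf ⊣ a) (W : DCoh.DQCoh S) (ω : Dual.D A)
    (hW : Nonempty (W.obj ≅ (DCoh.tildeD (CommRingCat.of A)).obj ω)) (n m : ℤ) (d : ℕ) (hn : (d : ℤ) + m = n)
    [ω.IsGE (-m)] [(a.obj W).obj.IsGE (-n)]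
    (hvan : ∀ M : X.Modules, Coh.IsQCoh M → ∀ i : ℕ, d < i → Subsingleton (Coh.HH X M i)) :
    ∃ t : Coh.HH X (DCoh.HD (a.obj W).obj (-n)) d →ₗ[A] Dual.HD A ω (-m),
      ∀ F : X.Modules, Coh.IsQCoh F → ∀ ψ : Coh.HH X F d →ₗ[A] Dual.HD A ω (-m),
        ∃! φ : F ⟶ DCoh.HD (a.obj W).obj (-n),
          ∀ x : Coh.HH X F d, ψ x = t (Sheaf.H.map ((SheafOfModules.toSheaf X.ringCatSheaf).map φ) d x) := by
  obtain ⟨eW⟩ := hW
  haveI : (tilde.functor (CommRingCat.of A)).Additive := Functor.additive_of_preserves_binary_products _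
  haveI := QCoh.tilde_preservesFiniteColimits (R := CommRingCat.of A)
  let s := DerivedCategory.singleFunctor X.Modules 0
  let Z := (a.obj W).obj
  let ωX := DCoh.HD Z (-n)
  let R := DCoh.Rpush f
  let G : X.Modules ⥤ DCoh.D S := s ⋙ shiftFunctor (DCoh.D X) (d : ℤ) ⋙ R
  let adjA := (shiftEquiv (DCoh.D X) n).toAdjunction
  let adjB := (shiftEquiv (DCoh.D S) m).toAdjunction
  haveI : (Z⟦-n⟧).IsGE 0 := DerivedCategory.TStructure.t.isGE_shift Z (-n) (-n) 0 (by omega)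
  obtain ⟨ι₁, hι₁⟩ := exists_fromBottom (Z⟦-n⟧)
  let q : (DerivedCategory.homologyFunctor X.Modules 0).obj (Z⟦-n⟧) ≅ ωX :=
    ((DerivedCategory.homologyFunctor X.Modules 0).shiftIso (-n) 0 (-n) (by omega)).app Z
  let ι₀ : s.obj ωX ⟶ Z⟦-n⟧ := s.map q.inv ≫ ι₁
  have hι₀ : ∀ F, Function.Bijective fun φ : F ⟶ ωX => s.map φ ≫ ι₀ := fun F => by
    have hq : (fun φ : F ⟶ ωX => s.map φ ≫ ι₀) =
        (fun φ => s.map φ ≫ ι₁) ∘ fun φ : F ⟶ ωX => φ ≫ q.inv := funext fun φ => by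
      show s.map φ ≫ s.map q.inv ≫ ι₁ = s.map (φ ≫ q.inv) ≫ ι₁
      rw [s.map_comp, Category.assoc]
    rw [hq]
    exact (hι₁ F).comp q.symm.homToEquiv.bijective
  let η : shiftFunctor (DCoh.D X) n ⋙ R ≅ (shiftFunctor (DCoh.D X) (d : ℤ) ⋙ R) ⋙ shiftFunctor (DCoh.D S) m :=
    Functor.isoWhiskerRight (shiftFunctorAdd' (DCoh.D X) (d : ℤ) m n hn) R ≪≫ Functor.associator _ _ _ ≪≫
      Functor.isoWhiskerLeft _ (R.commShiftIso m) ≪≫ (Functor.associator _ _ _).symm
  have hQ : ∀ {F : X.Modules}, Coh.IsQCoh F → DCoh.IsQCohD ((s.obj F)⟦n⟧) := fun hF =>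
    isQCohD_shift (ShriekPn7.isQCohD_inD hF) n
  let QF : ∀ F : X.Modules, Coh.IsQCoh F → DCoh.DQCoh X := fun F hF => ⟨(s.obj F)⟦n⟧, hQ hF⟩
  let e : ∀ (F : X.Modules) (_ : Coh.IsQCoh F), (F ⟶ ωX) → (G.obj F ⟶ W.obj⟦-m⟧) := fun F hF φ =>
    adjB.homEquiv (G.obj F) W.obj (η.inv.app (s.obj F) ≫
      ((adj.homEquiv (QF F hF) W).symm
        (ObjectProperty.homMk ((adjA.homEquiv (s.obj F) Z).symm (s.map φ ≫ ι₀)))).hom)
  have he : ∀ F hF, Function.Bijective (e F hF) := fun F hF => by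
    refine (adjB.homEquiv (G.obj F) W.obj).bijective.comp ?_
    refine ((η.app (s.obj F)).homFromEquiv.bijective).comp ?_
    refine (Function.Bijective.comp ⟨fun u v h => ObjectProperty.hom_ext _ h, fun u =>
      ⟨ObjectProperty.homMk u, rfl⟩⟩ ?_)
    refine ((adj.homEquiv (QF F hF) W).symm.bijective).comp ?_
    refine (Function.Bijective.comp ⟨fun u v h => congrArg (fun z => z.hom) h, fun u =>
      ⟨u.hom, ObjectProperty.hom_ext _ rfl⟩⟩ ?_)
    exact ((adjA.homEquiv (s.obj F) Z).symm.bijective).comp (hι₀ F)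
  have hω : Coh.IsQCoh ωX := (a.obj W).property (-n)
  let θ₀ := e ωX hω (𝟙 ωX)
  have hnat : ∀ F hF (φ : F ⟶ ωX), e F hF φ = G.map φ ≫ θ₀ := fun F hF φ => by
    show _ = G.map φ ≫ adjB.homEquiv _ _ _
    rw [← adjB.homEquiv_naturality_left]
    refine congrArg (adjB.homEquiv _ _) ?_
    have h1 : (adjA.homEquiv (s.obj F) Z).symm (s.map φ ≫ ι₀) =
        (s.map φ)⟦n⟧' ≫ (adjA.homEquiv (s.obj ωX) Z).symm (s.map (𝟙 ωX) ≫ ι₀) := by
      rw [s.map_id, Category.id_comp]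
      exact adjA.homEquiv_naturality_left_symm _ _
    have h2 : (adj.homEquiv (QF F hF) W).symm
        (ObjectProperty.homMk ((adjA.homEquiv (s.obj F) Z).symm (s.map φ ≫ ι₀))) =
        (DCoh.RpushQ f hf).map (X := QF F hF) (Y := QF ωX hω) (ObjectProperty.homMk ((s.map φ)⟦n⟧')) ≫
          (adj.homEquiv (QF ωX hω) W).symm
            (ObjectProperty.homMk ((adjA.homEquiv (s.obj ωX) Z).symm (s.map (𝟙 ωX) ≫ ι₀))) := by
      rw [← adj.homEquiv_naturality_left_symm]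
      exact congrArg _ (ObjectProperty.hom_ext _ h1)
    rw [h2]
    show η.inv.app (s.obj F) ≫ R.map ((s.map φ)⟦n⟧') ≫ _ = (shiftFunctor (DCoh.D S) m).map (G.map φ) ≫ η.inv.app _ ≫ _
    exact (Category.assoc _ _ _).symm.trans ((congrArg (fun z => z ≫ ((adj.homEquiv (QF ωX hω) W).symm
      (ObjectProperty.homMk ((adjA.homEquiv (s.obj ωX) Z).symm (s.map (𝟙 ωX) ≫ ι₀)))).hom)
        (η.inv.naturality (s.map φ)).symm).trans (Category.assoc _ _ _))
  let L : Dual.D A := ω⟦-m⟧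
  haveI : L.IsGE 0 := DerivedCategory.TStructure.t.isGE_shift ω (-m) (-m) 0 (by omega)
  let eL : W.obj⟦-m⟧ ≅ (DCoh.tildeD (CommRingCat.of A)).obj L :=
    (shiftFunctor (DCoh.D S) (-m)).mapIso eW ≪≫ (((DCoh.tildeD (CommRingCat.of A)).commShiftIso (-m)).app ω).symm
  obtain ⟨J, hJ, hpair⟩ := exists_pairing L eL
  obtain ⟨Φ, hΦn, hΦs⟩ := exists_classes (X := X) (A := A) d
  obtain ⟨eH⟩ := exists_homRingLEquiv ω (-m)
  let t : Coh.HH X ωX d →ₗ[A] Dual.HD A ω (-m) :=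
    { toFun := fun x => eH (J ((Φ ωX).symm x ≫ θ₀))
      map_add' := fun x y => by rw [map_add, Preadditive.add_comp, map_add, map_add]
      map_smul' := fun r x => by
        have : (Φ ωX).symm (r • x) = scal S ((Scheme.ΓSpecIso (CommRingCat.of A)).inv r) ≫ (Φ ωX).symm x := by
          rw [AddEquiv.symm_apply_eq, hΦs, AddEquiv.apply_symm_apply]
        rw [this, Category.assoc, hJ, map_smul, RingHom.id_apply] }
  refine ⟨t, fun F hF ψ => ?_⟩
  obtain ⟨K, hK, ⟨eG⟩⟩ := exists_tilde_isLE hf d hvan hF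
  obtain ⟨hinj, hsurj⟩ := hpair K eG
  have ht : ∀ (φ : F ⟶ ωX) (y : _ ⟶ G.obj F),
      t (Sheaf.H.map ((SheafOfModules.toSheaf X.ringCatSheaf).map φ) d (Φ F y)) = eH (J (y ≫ e F hF φ)) :=
    fun φ y => by
      rw [← hΦn F ωX φ y]
      show eH (J ((Φ ωX).symm (Φ ωX (y ≫ G.map φ)) ≫ θ₀)) = _
      rw [AddEquiv.symm_apply_apply, Category.assoc, ← hnat F hF φ]
  obtain ⟨θ, hθ⟩ := hsurj (eH.symm.toLinearMap.toAddMonoidHom.comp (ψ.toAddMonoidHom.comp (Φ F).toAddMonoidHom))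
    fun r y => by
      show eH.symm (ψ (Φ F _)) = r • eH.symm (ψ (Φ F y))
      rw [hΦs, map_smul, map_smul]
  obtain ⟨φ, hφ⟩ := (he F hF).2 θ
  refine ⟨φ, fun x => ?_, fun φ' hφ' => (he F hF).1 (hinj _ _ fun y => eH.injective ?_)⟩
  · obtain ⟨y, rfl⟩ := (Φ F).surjective x
    rw [ht, hφ, hθ]
    exact (eH.apply_symm_apply _).symm
  · rw [← ht, ← hφ' (Φ F y), hφ, hθ]
    exact (eH.apply_symm_apply _).symm

end Groth.Agent.TopDual7
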