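import Groth.Prelude.Def_Wider
import Mathlib.Algebra.Homology.DerivedCategory.TStructure
import Mathlib.Algebra.Homology.DerivedCategory.Linear
import Mathlib.Algebra.Homology.DerivedCategory.FullyFaithful
import Mathlib.CategoryTheory.Triangulated.TStructure.TruncLTGE
import Groth.Agent.KFlatLib.Ring.DualizingLocalExt

/-!
# Maps between objects on either side of the t-structure
-/

set_option linter.style.haveILetI false
set_option backward.isDefEq.respectTransparency false
set_option backward.isDefEq.respectTransparency.types false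

universe u

open CategoryTheory CategoryTheory.Limits

attribute [local instance] HasDerivedCategory.standard

noncomputable section

namespace Groth.Agent.TopDual7

open Groth.Agent

variable {A : Type u} [CommRing A]

/-- The standard t-structure. -/
abbrev tS (A : Type u) [CommRing A] := DerivedCategory.TStructure.t (C := ModuleCat.{u} A)

/-- Nothing maps from the ring to an object concentrated in negative degrees. -/
theorem eq_zero_from_free (Z : Dual.D A) [Z.IsLE (-1)] (z : Dual.inD A A ⟶ Z) : z = 0 := by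
  obtain ⟨e⟩ := KFlatLib.exists_homRingLEquiv Z 0
  haveI : Subsingleton (Dual.HD A Z 0) :=
    ModuleCat.subsingleton_of_isZero (DerivedCategory.isZero_of_isLE Z (-1) 0 (by omega))
  haveI : Subsingleton (Dual.inD A A ⟶ Z⟦(0 : ℤ)⟧) := e.toEquiv.subsingleton
  let s0 := (shiftFunctorZero (Dual.D A) ℤ).app Z
  have h : z ≫ s0.inv = 0 := Subsingleton.elim _ _
  exact (cancel_mono s0.inv).1 (h.trans zero_comp.symm)

/-- An object concentrated below zero maps to its top cohomology. -/
theorem exists_toSingle (K : Dual.D A) [K.IsLE 0] :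
    ∃ (M : ModuleCat.{u} A) (π : K ⟶ (DerivedCategory.singleFunctor (ModuleCat.{u} A) 0).obj M),
      (∀ Z : Dual.D A, Z.IsGE 0 → Function.Bijective fun g : (DerivedCategory.singleFunctor _ 0).obj M ⟶ Z => π ≫ g) ∧
        Function.Bijective fun y : Dual.inD A A ⟶ K => y ≫ π := by
  let T := (tS A).truncGE 0
  haveI : (T.obj K).IsGE 0 := (tS A).isGE_truncGE_obj _ _ _ le_rfl
  haveI : (T.obj K).IsLE 0 := inferInstanceAs ((tS A).IsLE (((tS A).truncGE 0).obj K) 0)
  obtain ⟨M, ⟨eM⟩⟩ := DerivedCategory.exists_iso_singleFunctor_obj_of_isGE_of_isLE (T.obj K) 0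
  refine ⟨M, ((tS A).truncGEπ 0).app K ≫ eM.hom, fun Z hZ => ⟨fun g g' h => ?_, fun f => ?_⟩, ⟨fun y y' h => ?_, fun g => ?_⟩⟩
  · haveI : (tS A).IsGE Z 0 := hZ
    rw [← cancel_epi eM.hom]
    exact (tS A).from_truncGE_obj_ext (by simpa only [Category.assoc] using h)
  · haveI : (tS A).IsGE Z 0 := hZ
    exact ⟨eM.inv ≫ (tS A).descTruncGE f 0, by simp⟩
  · have h0 : (y - y') ≫ ((tS A).truncGEπ 0).app K = 0 := by
      rw [Preadditive.sub_comp, sub_eq_zero]
      exact (cancel_mono eM.hom).1 (by simpa only [Category.assoc] using h)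
    obtain ⟨z, hz⟩ := Pretriangulated.Triangle.coyoneda_exact₂ _ ((tS A).triangleLTGE_distinguished 0 K) (y - y') h0
    haveI : (tS A).IsLE (((tS A).truncLT 0).obj K) (-1) := (tS A).isLE_truncLT_obj _ _ _ (by omega)
    have hz0 : z = 0 := @eq_zero_from_free A _ _ this z
    rw [hz0, zero_comp] at hz
    exact sub_eq_zero.1 hz
  · have hT := (tS A).triangleLTGE_distinguished 0 K
    haveI : (tS A).IsLE (((tS A).truncLT 0).obj K) (-1) := (tS A).isLE_truncLT_obj _ _ _ (by omega)
    haveI : (tS A).IsLE ((((tS A).truncLT 0).obj K)⟦(1 : ℤ)⟧) (-2) := (tS A).isLE_shift _ (-1) 1 (-2) (by omega)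
    have h4 : (tS A).IsLE ((((tS A).truncLT 0).obj K)⟦(1 : ℤ)⟧) (-1) := (tS A).isLE_of_le _ (-2) (-1) (by omega)
    obtain ⟨y, hy⟩ := Pretriangulated.Triangle.coyoneda_exact₃ _ hT (g ≫ eM.inv) (@eq_zero_from_free A _ _ h4 _)
    replace hy := hy.symm
    exact ⟨y, (Category.assoc _ _ _).symm.trans ((congrArg (fun q => q ≫ eM.hom) hy).trans
      ((Category.assoc _ _ _).trans ((congrArg (fun q => g ≫ q) eM.inv_hom_id).trans (Category.comp_id _))))⟩

/-- An object concentrated above zero receives its bottom cohomology. -/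
theorem exists_fromSingle (W : Dual.D A) [W.IsGE 0] :
    ∃ (N : ModuleCat.{u} A) (ι : (DerivedCategory.singleFunctor (ModuleCat.{u} A) 0).obj N ⟶ W),
      ∀ Z : Dual.D A, Z.IsLE 0 → Function.Bijective fun g : Z ⟶ (DerivedCategory.singleFunctor _ 0).obj N => g ≫ ι := by
  let T := (tS A).truncLT 1
  haveI : (T.obj W).IsGE 0 := inferInstanceAs ((tS A).IsGE (((tS A).truncLT 1).obj W) 0)
  haveI : (T.obj W).IsLE 0 := (tS A).isLE_truncLT_obj _ _ _ (by omega)
  obtain ⟨N, ⟨eN⟩⟩ := DerivedCategory.exists_iso_singleFunctor_obj_of_isGE_of_isLE (T.obj W) 0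
  refine ⟨N, eN.inv ≫ ((tS A).truncLTι 1).app W, fun Z hZ => ⟨fun g g' h => ?_, fun f => ?_⟩⟩
  · haveI : (tS A).IsLE Z (1 - 1) := hZ
    rw [← cancel_mono eN.inv]
    exact (tS A).to_truncLT_obj_ext (by simpa only [Category.assoc] using h)
  · haveI : (tS A).IsLE Z 0 := hZ
    exact ⟨(tS A).liftTruncLT f 0 1 (by omega) ≫ eN.hom, by simp⟩

/-- Pairing `H^0`: maps `K → W` are linear maps between the zeroth cohomologies. -/
theorem bijective_pairing (K W : Dual.D A) [K.IsLE 0] [W.IsGE 0] :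
    Function.Bijective fun θ : K ⟶ W => Linear.rightComp A (Dual.inD A A) θ := by
  obtain ⟨M, π, hπ, hπA⟩ := exists_toSingle K
  obtain ⟨N, ι, hι⟩ := exists_fromSingle W
  let s := DerivedCategory.singleFunctor (ModuleCat.{u} A) 0
  haveI hA : (Dual.inD A A).IsLE 0 := inferInstanceAs ((s.obj _).IsLE 0)
  have hM : (s.obj M).IsLE 0 := inferInstance
  let Φ : (M ⟶ N) → (K ⟶ W) := fun g => π ≫ s.map g ≫ ι
  have hΦ : Function.Bijective Φ := (hπ W inferInstance).comp ((hι _ hM).comp
    ((Functor.FullyFaithful.ofFullyFaithful s).map_bijective M N))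
  let eM0 : (Dual.inD A A ⟶ K) ≃ₗ[A] (ModuleCat.of A A ⟶ M) :=
    (LinearEquiv.ofBijective (Linear.rightComp A (Dual.inD A A) π) hπA).trans
      (LinearEquiv.ofBijective (s.mapLinearMap A (X := ModuleCat.of A A) (Y := M))
        ((Functor.FullyFaithful.ofFullyFaithful s).map_bijective _ _)).symm
  let eM : (Dual.inD A A ⟶ K) ≃ₗ[A] (M : Type u) :=
    eM0.trans ((ModuleCat.homLinearEquiv (S := A)).trans (LinearMap.ringLmapEquivSelf A A M))
  let eW : (N : Type u) ≃ₗ[A] (Dual.inD A A ⟶ W) :=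
    ((LinearMap.ringLmapEquivSelf A A N).symm.trans (ModuleCat.homLinearEquiv (M := ModuleCat.of A A) (N := N) (S := A)).symm).trans
      ((LinearEquiv.ofBijective (s.mapLinearMap A (X := ModuleCat.of A A) (Y := N))
        ((Functor.FullyFaithful.ofFullyFaithful s).map_bijective _ _)).trans
      (LinearEquiv.ofBijective (Linear.rightComp A (Dual.inD A A) ι) (hι _ hA)))
  let Ψ : (M ⟶ N) → ((Dual.inD A A ⟶ K) →ₗ[A] (Dual.inD A A ⟶ W)) := fun g =>
    eW.toLinearMap ∘ₗ g.hom ∘ₗ eM.toLinearMap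
  have hΨ : Function.Bijective Ψ :=
    ((eM.symm.arrowCongr eW).bijective).comp (ModuleCat.homEquiv (M := M) (N := N)).bijective
  have heq : (fun θ : K ⟶ W => Linear.rightComp A (Dual.inD A A) θ) ∘ Φ = Ψ := by
    funext g
    refine LinearMap.ext fun y => ?_
    obtain ⟨h, hh⟩ := ((Functor.FullyFaithful.ofFullyFaithful s).map_bijective (ModuleCat.of A A) M).2 (y ≫ π)
    have hy : eM y = h.hom (1 : A) := by
      have hL : eM0 y = h := (LinearEquiv.symm_apply_eq _).2 hh.symm
      show (ModuleCat.homLinearEquiv (S := A) (eM0 y)).toFun 1 = _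
      rw [hL]
      rfl
    show y ≫ π ≫ s.map g ≫ ι = eW (g.hom (eM y))
    rw [← Category.assoc, ← hh, hy]
    show s.map h ≫ s.map g ≫ ι = s.map (ModuleCat.ofHom ((LinearMap.ringLmapEquivSelf A A N).symm (g.hom (h.hom 1)))) ≫ ι
    rw [← Category.assoc, ← s.map_comp]
    congr 2
    refine ModuleCat.hom_ext (LinearMap.ext_ring ?_)
    simp
  exact (Function.Bijective.of_comp_iff _ hΦ).1 (heq ▸ hΨ)

end Groth.Agent.TopDual7
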